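import Cfsg.Agent.BM.StageWRel_m3
import Cfsg.Agent.BabyM.Instance
import Cfsg.Agent.BabyM.TransInv
import Cfsg.Agent.Prune
set_option linter.all false
prune_inst 0x7f00000000000000000000000000000000000000000000000000000000000000000000000000000000000000000000000000000000000000000000000000000000000000000000000000000000000000003fffffffffffffffffffffffffffbeffbdffffffff
open scoped Cfsg.Agent.FastGrp

/-!
# S5525 (`U3(3)` in the Baby Monster): words in the 4371-dimensional model (helper819)

`G` : the Baby Monster (the concrete model), `g w` : the value of the word `w` (a homomorphism: `g (v ++ w) = g v * g w`),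
`eq_of` : equality of words by one kernel check.
-/

set_option autoImplicit false

namespace Cfsg.Agent.H819.U33

open Cfsg.Agent.BabyM.Conc Cfsg.Agent.BabyM.Inst Cfsg.Agent.BabyM.TransInv

/-- The Baby Monster (model). -/
abbrev G : Type := ↥M.G

/-- The value of a word. -/
noncomputable def g (w : List Ltr) : G := (BM.StageW.Wg w)⁻¹

theorem g_append (v w : List Ltr) : g (v ++ w) = g v * g w := by
  unfold g
  rw [BM.StageW.Wg_append, mul_inv_rev]

theorem g_nil : g [] = 1 := by
  unfold g
  rw [BM.StageW.Wg_nil, inv_one]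

theorem g_winv (w : List Ltr) : g (winv w) = (g w)⁻¹ := by
  unfold g
  congr 1
  apply Subtype.ext
  show W (winv w) = ((BM.StageW.Wg w)⁻¹ : G)
  rw [W_winv]
  rfl

/-- **Equality of words.** -/
theorem eq_of {v w : List Ltr} (h : BM.StageW.chk v w = true) : g v = g w := by
  unfold g
  rw [BM.StageW.eq_of_chk BabyM.Instance.all BabyM.Instance.ok h]

/-- `x⁻¹ y x` for words. -/
def cj (x y : List Ltr) : List Ltr := winv x ++ y ++ x

theorem g_cj (x y : List Ltr) : g (cj x y) = (g x)⁻¹ * g y * g x := by
  unfold cj
  rw [g_append, g_append, g_winv]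

/-- The `n`-th power of a word. -/
def pw (w : List Ltr) : ℕ → List Ltr
  | 0 => []
  | n + 1 => pw w n ++ w

theorem g_pw (w : List Ltr) (n : ℕ) : g (pw w n) = g w ^ n := by
  induction n with
  | zero => rw [pw, g_nil, pow_zero]
  | succ n ih => rw [pw, g_append, ih, pow_succ]

theorem comm_of {v w : List Ltr} (h : BM.StageW.chk (v ++ w) (w ++ v) = true) : g v * g w = g w * g v := by
  rw [← g_append, ← g_append, eq_of h]

/-! ### The words -/

/-- `u`, of order 7. -/
def wu : List Ltr := [.p5, .hi, .p4, .h]

/-- `f`, of order 3 (class 3A), `f⁻¹ u f = u²`. -/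
def wf : List Ltr := [.Z9, .p, .h, .p5, .h, .p7, .hi, .hi, .p7, .hi, .p8, .hi]

/-- `y = f τ`, of order 3 (class 3B). -/
def wy : List Ltr := wf ++ [.tau]

theorem f_u : (g wf)⁻¹ * g wu * g wf = g wu ^ 2 := by
  rw [← g_cj, ← g_pw]
  exact eq_of (by decide +kernel)

theorem u_seven : g wu ^ 7 = 1 := by
  rw [← g_pw, ← g_nil]
  exact eq_of (by decide +kernel)

theorem f_three : g wf ^ 3 = 1 := by
  rw [← g_pw, ← g_nil]
  exact eq_of (by decide +kernel)

theorem tau_u : g [.tau] * g wu = g wu * g [.tau] := comm_of (by decide +kernel)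

theorem tau_f : g [.tau] * g wf = g wf * g [.tau] := comm_of (by decide +kernel)

end Cfsg.Agent.H819.U33

private theorem dce_38526c605c28 : _root_.True := by
  try have : _root_.True := by simp only [_root_.Cfsg.Agent.H819.U33.pw.eq_1]
  try have : _root_.True := by simp only [_root_.Cfsg.Agent.H819.U33.pw.eq_2]
  try have : _root_.True := by simp only [_root_.Cfsg.Agent.H819.U33.pw.eq_def]
  exact _root_.True.intro
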