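import Mathlib.GroupTheory.Coset.Basic
import Mathlib.Tactic
import Cfsg.Agent.Prune
set_option linter.all false
prune_inst 0x7f00000000000000000000000000000000000000000000000000000000000000000000000000000000000000000000000000000000000000000000000000000000000000000000000000000000000000003fffffffffffffffffffffffffffbeffbdffffffff
open scoped Cfsg.Agent.FastGrp

/-!
# S5525: the elements of `U3(3)` that are used (helper819)
-/

set_option autoImplicit false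

namespace Cfsg.Agent.H819.U33

/-- Elements `u`, `y`, `x` of orders 7, 3, 3 with `y⁻¹ u y = u²`, `x y = y x`, generating `U3(3)`. -/
structure Trip {K : Type*} [Group K] (u y x : K) : Prop where
  u7 : u ^ 7 = 1
  u1 : u ≠ 1
  y3 : y ^ 3 = 1
  x3 : x ^ 3 = 1
  x1 : x ≠ 1
  yu : y⁻¹ * u * y = u ^ 2
  xy : x * y = y * x
  rel : x * u * x * u⁻¹ * x⁻¹ * u⁻¹ * x * u * x = (u⁻¹) ^ 2
  q3 : (u⁻¹ * x⁻¹ * u⁻¹ ^ 3 * x⁻¹ * u⁻¹) ^ 3 = 1
  qx : (u⁻¹ * x⁻¹ * u⁻¹ ^ 3 * x⁻¹ * u⁻¹) * x = x * (u⁻¹ * x⁻¹ * u⁻¹ ^ 3 * x⁻¹ * u⁻¹)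
  yq : (u⁻¹ * x⁻¹ * u⁻¹ ^ 3 * x⁻¹ * u⁻¹)⁻¹ * y * (u⁻¹ * x⁻¹ * u⁻¹ ^ 3 * x⁻¹ * u⁻¹) = y * x
  xw : (u * x * u⁻¹ * x⁻¹ * u)⁻¹ * x * (u * x * u⁻¹ * x⁻¹ * u) = x⁻¹
  yw : (u * x * u⁻¹ * x⁻¹ * u)⁻¹ * y * (u * x * u⁻¹ * x⁻¹ * u) =
    y ^ 2 * (u⁻¹ * x⁻¹ * u⁻¹ ^ 3 * x⁻¹ * u⁻¹) ^ 2
  qw : (u * x * u⁻¹ * x⁻¹ * u)⁻¹ * (u⁻¹ * x⁻¹ * u⁻¹ ^ 3 * x⁻¹ * u⁻¹) * (u * x * u⁻¹ * x⁻¹ * u) =
    y * (u⁻¹ * x⁻¹ * u⁻¹ ^ 3 * x⁻¹ * u⁻¹) ^ 2 * x

namespace Trip

variable {K L : Type*} [Group K] [Group L] {u y x : K}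

/-- Images under injective homomorphisms. -/
theorem map (h : Trip u y x) (φ : K →* L) (hφ : Function.Injective φ) : Trip (φ u) (φ y) (φ x) where
  u7 := by rw [← map_pow, h.u7, map_one]
  u1 h1 := h.u1 (hφ (by rw [h1, map_one]))
  y3 := by rw [← map_pow, h.y3, map_one]
  x3 := by rw [← map_pow, h.x3, map_one]
  x1 h1 := h.x1 (hφ (by rw [h1, map_one]))
  yu := by have := congrArg φ h.yu; simpa only [map_mul, map_inv, map_pow] using this
  xy := by have := congrArg φ h.xy; simpa only [map_mul, map_inv, map_pow] using this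
  rel := by have := congrArg φ h.rel; simpa only [map_mul, map_inv, map_pow] using this
  q3 := by have := congrArg φ h.q3; simpa only [map_mul, map_inv, map_pow, map_one] using this
  qx := by have := congrArg φ h.qx; simpa only [map_mul, map_inv, map_pow] using this
  yq := by have := congrArg φ h.yq; simpa only [map_mul, map_inv, map_pow] using this
  xw := by have := congrArg φ h.xw; simpa only [map_mul, map_inv, map_pow] using this
  yw := by have := congrArg φ h.yw; simpa only [map_mul, map_inv, map_pow] using this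
  qw := by have := congrArg φ h.qw; simpa only [map_mul, map_inv, map_pow] using this

/-- Conjugates. -/
theorem conj (h : Trip u y x) (c : K) : Trip (c⁻¹ * u * c) (c⁻¹ * y * c) (c⁻¹ * x * c) := by
  have := h.map (MulAut.conj c⁻¹).toMonoidHom (MulAut.conj c⁻¹).injective
  simpa using this

end Trip

end Cfsg.Agent.H819.U33
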